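import Cfsg.Agent.H337.HT.Num
import Cfsg.Agent.H936.List12
import Cfsg.Agent.H223.Bnd.Psu
import Cfsg.Agent.H277.ClsPsu
import Cfsg.Agent.H95.LSx.Uni
import Cfsg.Agent.H546.FaPSU

/-!
# S3540, quasisimple rows, task B2: unitary groups, `n ≥ 13` (helper930)
-/

set_option autoImplicit false

namespace Cfsg.Agent.H930.HT

open Cfsg Cfsg.Agent.H915.LD Cfsg.Agent.H337.HT Cfsg.Agent.H912.Bd Cfsg.Agent.H936.List12

universe u v

/-! ### The numerical inequality -/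

theorem le_five_pow {s : ℕ} (hs : 1 ≤ s) : s ≤ 5 ^ (s - 1) := by
  obtain ⟨t, rfl⟩ : ∃ t, s = t + 1 := ⟨s - 1, by omega⟩
  rw [Nat.add_sub_cancel]
  exact Nat.lt_pow_self (by norm_num)

theorem num_step {m s : ℕ} (hm : 3 ≤ m) (hs : 2 ≤ s) (h1 : 4 * m + 2 ≤ (s - 1) * s ^ (m - 2))
    (h2 : s ^ (2 * m ^ 2) ≤ 2 * 5 ^ ((s - 1) * s ^ (m - 2) - 2)) :
    4 * (m + 1) + 2 ≤ (s - 1) * s ^ (m + 1 - 2) ∧
      s ^ (2 * (m + 1) ^ 2) ≤ 2 * 5 ^ ((s - 1) * s ^ (m + 1 - 2) - 2) := by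
  have e : (s - 1) * s ^ (m + 1 - 2) = ((s - 1) * s ^ (m - 2)) * s := by
    rw [show m + 1 - 2 = (m - 2) + 1 by omega, pow_succ]
    ring
  rw [e]
  set N := (s - 1) * s ^ (m - 2) with hN
  have h3 : N * 2 ≤ N * s := Nat.mul_le_mul_left _ hs
  constructor
  · omega
  · have h4 : s ^ (4 * m + 2) ≤ 5 ^ ((s - 1) * N) := by
      calc s ^ (4 * m + 2) ≤ (5 ^ (s - 1)) ^ (4 * m + 2) := Nat.pow_le_pow_left (le_five_pow (by omega)) _
        _ = 5 ^ ((s - 1) * (4 * m + 2)) := (pow_mul _ _ _).symm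
        _ ≤ _ := Nat.pow_le_pow_right (by norm_num) (Nat.mul_le_mul_left _ h1)
    calc s ^ (2 * (m + 1) ^ 2) = s ^ (2 * m ^ 2) * s ^ (4 * m + 2) := by rw [← pow_add]; congr 1; ring
      _ ≤ (2 * 5 ^ (N - 2)) * 5 ^ ((s - 1) * N) := Nat.mul_le_mul h2 h4
      _ = 2 * 5 ^ (N * s - 2) := by
        rw [mul_assoc, ← pow_add]
        congr 2
        obtain ⟨t, rfl⟩ : ∃ t, s = t + 1 := ⟨s - 1, by omega⟩
        rw [Nat.add_sub_cancel, Nat.mul_succ, mul_comm t N]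
        omega

theorem num_three {s : ℕ} (hs : 5 ≤ s) : s ^ 18 ≤ 2 * 5 ^ ((s - 1) * s - 2) := by
  induction s, hs using Nat.le_induction with
  | base => norm_num
  | succ s hs ih =>
    have h1 : 5 ^ 18 * (s + 1) ^ 18 ≤ 5 ^ 18 * (s ^ 18 * 5 ^ (2 * s)) := by
      calc 5 ^ 18 * (s + 1) ^ 18 = (5 * (s + 1)) ^ 18 := (mul_pow _ _ _).symm
        _ ≤ (6 * s) ^ 18 := Nat.pow_le_pow_left (by omega) _
        _ = 6 ^ 18 * s ^ 18 := mul_pow _ _ _
        _ ≤ (5 ^ 18 * 5 ^ 10) * s ^ 18 := Nat.mul_le_mul_right _ (by norm_num)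
        _ ≤ (5 ^ 18 * 5 ^ (2 * s)) * s ^ 18 :=
          Nat.mul_le_mul_right _ (Nat.mul_le_mul_left _ (Nat.pow_le_pow_right (by norm_num) (by omega)))
        _ = _ := by ring
    have h2 := Nat.le_of_mul_le_mul_left h1 (by norm_num)
    calc (s + 1) ^ 18 ≤ s ^ 18 * 5 ^ (2 * s) := h2
      _ ≤ (2 * 5 ^ ((s - 1) * s - 2)) * 5 ^ (2 * s) := Nat.mul_le_mul_right _ ih
      _ = _ := by
        rw [mul_assoc, ← pow_add]
        congr 2
        obtain ⟨t, rfl⟩ : ∃ t, s = t + 1 := ⟨s - 1, by omega⟩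
        rw [Nat.add_sub_cancel, Nat.add_sub_cancel]
        have h3 : (t + 1) * (t + 1 + 1) = t * (t + 1) + 2 * (t + 1) := by ring
        have h4 : 4 * 5 ≤ t * (t + 1) := Nat.mul_le_mul (by omega) (by omega)
        omega

theorem num_all {m s : ℕ} (h : 3 ≤ m ∧ 5 ≤ s ∨ 4 ≤ m ∧ s = 4 ∨ 5 ≤ m ∧ s = 3 ∨ 8 ≤ m ∧ s = 2) :
    s ^ (2 * m ^ 2) ≤ 2 * 5 ^ ((s - 1) * s ^ (m - 2) - 2) := by
  have key : ∀ m₀, 3 ≤ m₀ → 2 ≤ s → 4 * m₀ + 2 ≤ (s - 1) * s ^ (m₀ - 2) →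
      s ^ (2 * m₀ ^ 2) ≤ 2 * 5 ^ ((s - 1) * s ^ (m₀ - 2) - 2) → m₀ ≤ m →
      4 * m + 2 ≤ (s - 1) * s ^ (m - 2) ∧ s ^ (2 * m ^ 2) ≤ 2 * 5 ^ ((s - 1) * s ^ (m - 2) - 2) := by
    intro m₀ h3 hs h1 h2 hm
    clear h
    induction m, hm using Nat.le_induction with
    | base => exact ⟨h1, h2⟩
    | succ m hm ih => exact num_step (h3.trans hm) hs ih.1 ih.2
  rcases h with ⟨hm, hs⟩ | ⟨hm, rfl⟩ | ⟨hm, rfl⟩ | ⟨hm, rfl⟩
  · refine (key 3 le_rfl (by omega) ?_ ?_ hm).2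
    · have : 4 * 5 ≤ (s - 1) * s := Nat.mul_le_mul (by omega) hs
      simpa using this.trans' (by norm_num)
    · have := num_three hs
      simpa using this
  · exact (key 4 (by norm_num) (by norm_num) (by norm_num) (by norm_num) hm).2
  · exact (key 5 (by norm_num) (by norm_num) (by norm_num) (by norm_num) hm).2
  · exact (key 8 (by norm_num) (by norm_num) (by norm_num) (by norm_num) hm).2

/-! ### The orders -/

section cards

variable {K : Type v} [Field K] [Fintype K]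

theorem card_u33 (hK : Fintype.card K = 3 ^ 2) : Nat.card (PSU 3 K 3) = 6048 := by
  have h := H277.ClsPsu.card_psu hK (n := 3) (by norm_num)
  norm_num [Finset.prod_range_succ, Nat.even_iff] at h
  omega

theorem card_u34 (hK : Fintype.card K = 4 ^ 2) : Nat.card (PSU 3 K 4) = 62400 := by
  have h := H277.ClsPsu.card_psu hK (n := 3) (by norm_num)
  norm_num [Finset.prod_range_succ, Nat.even_iff] at h
  omega

theorem card_u42 (hK : Fintype.card K = 2 ^ 2) : Nat.card (PSU 4 K 2) = 25920 := by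
  have h := H277.ClsPsu.card_psu hK (n := 4) (by norm_num)
  norm_num [Finset.prod_range_succ, Nat.even_iff] at h
  omega

theorem card_u43 (hK : Fintype.card K = 3 ^ 2) : Nat.card (PSU 4 K 3) = 3265920 := by
  have h := H277.ClsPsu.card_psu hK (n := 4) (by norm_num)
  norm_num [Finset.prod_range_succ, Nat.even_iff] at h
  omega

theorem card_u52 (hK : Fintype.card K = 2 ^ 2) : Nat.card (PSU 5 K 2) = 13685760 := by
  have h := H277.ClsPsu.card_psu hK (n := 5) (by norm_num)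
  norm_num [Finset.prod_range_succ, Nat.even_iff] at h
  omega

theorem card_u62 (hK : Fintype.card K = 2 ^ 2) : Nat.card (PSU 6 K 2) = 9196830720 := by
  have h := H277.ClsPsu.card_psu hK (n := 6) (by norm_num)
  norm_num [Finset.prod_range_succ, Nat.even_iff] at h
  omega

theorem card_u72 (hK : Fintype.card K = 2 ^ 2) : Nat.card (PSU 7 K 2) = 227787103272960 := by
  have h := H277.ClsPsu.card_psu hK (n := 7) (by norm_num)
  norm_num [Finset.prod_range_succ, Nat.even_iff] at h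
  omega

variable {n : ℕ}

theorem dead_u33 (hK : Fintype.card K = 3 ^ 2) (hn : 13 ≤ n) : Dead n (PSU 3 K 3) := by
  have h3 : Fact (Nat.Prime 3) := ⟨Nat.prime_three⟩
  refine sieve_dead (o := 6048) (A := 12096) (n₀ := 13) 5 30 20 (card_u33 hK) ?_ (by norm_num) (by norm_num)
    (by norm_num) (by decide) (by decide) hn
  rw [S0815.result 3 1 le_rfl (by norm_num) hK 3 le_rfl (by norm_num), card_u33 hK]
  norm_num

theorem dead_u34 (hK : Fintype.card K = 4 ^ 2) (hn : 13 ≤ n) : Dead n (PSU 3 K 4) := by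
  have h3 : Fact (Nat.Prime 2) := ⟨Nat.prime_two⟩
  refine sieve_dead (o := 62400) (A := 249600) (n₀ := 13) 7 30 20 (card_u34 hK) ?_ (by norm_num) (by norm_num)
    (by norm_num) (by decide) (by decide) hn
  rw [S0815.result 2 2 (by norm_num) (by norm_num) hK 3 le_rfl (by norm_num), card_u34 hK]
  norm_num

theorem dead_u42 (hK : Fintype.card K = 2 ^ 2) (hn : 13 ≤ n) : Dead n (PSU 4 K 2) := by
  have h3 : Fact (Nat.Prime 2) := ⟨Nat.prime_two⟩
  refine sieve_dead (o := 25920) (A := 51840) (n₀ := 13) 7 30 20 (card_u42 hK) ?_ (by norm_num) (by norm_num)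
    (by norm_num) (by decide) (by decide) hn
  rw [S0815.result 2 1 le_rfl (by norm_num) hK 4 (by norm_num) (by norm_num), card_u42 hK]
  norm_num

theorem dead_u43 (hK : Fintype.card K = 3 ^ 2) (hn : 13 ≤ n) : Dead n (PSU 4 K 3) := by
  have h3 : Fact (Nat.Prime 3) := ⟨Nat.prime_three⟩
  refine sieve_dead (o := 3265920) (A := 26127360) (n₀ := 13) 11 30 20 (card_u43 hK) ?_ (by norm_num) (by norm_num)
    (by norm_num) (by decide) (by decide) hn
  rw [S0815.result 3 1 le_rfl (by norm_num) hK 4 (by norm_num) (by norm_num), card_u43 hK]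
  norm_num

theorem dead_u52 (hK : Fintype.card K = 2 ^ 2) (hn : 13 ≤ n) : Dead n (PSU 5 K 2) := by
  have h3 : Fact (Nat.Prime 2) := ⟨Nat.prime_two⟩
  refine sieve_dead (o := 13685760) (A := 27371520) (n₀ := 13) 7 30 20 (card_u52 hK) ?_ (by norm_num) (by norm_num)
    (by norm_num) (by decide) (by decide) hn
  rw [S0815.result 2 1 le_rfl (by norm_num) hK 5 (by norm_num) (by norm_num), card_u52 hK]
  norm_num

theorem dead_u62 (hK : Fintype.card K = 2 ^ 2) (hn : 16 ≤ n) : Dead n (PSU 6 K 2) := by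
  have h3 : Fact (Nat.Prime 2) := ⟨Nat.prime_two⟩
  refine sieve_dead (o := 9196830720) (A := 55180984320) (n₀ := 16) 13 30 20 (card_u62 hK) ?_ (by norm_num)
    (by norm_num) (by norm_num) (by decide) (by decide) hn
  rw [S0815.result 2 1 le_rfl (by norm_num) hK 6 (by norm_num) (by norm_num), card_u62 hK]
  norm_num

theorem dead_u72 (hK : Fintype.card K = 2 ^ 2) (hn : 32 ≤ n) : Dead n (PSU 7 K 2) := by
  have h3 : Fact (Nat.Prime 2) := ⟨Nat.prime_two⟩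
  refine sieve_dead (o := 227787103272960) (A := 455574206545920) (n₀ := 32) 13 30 20 (card_u72 hK) ?_ (by norm_num)
    (by norm_num) (by norm_num) (by decide) (by decide) hn
  rw [S0815.result 2 1 le_rfl (by norm_num) hK 7 (by norm_num) (by norm_num), card_u72 hK]
  norm_num

theorem card_aut_le {p f m s : ℕ} [hp : Fact p.Prime] (hf : 1 ≤ f) (hs : s = p ^ f) (hK : Fintype.card K = s ^ 2)
    (hm : 3 ≤ m) (h32 : ¬ (m = 3 ∧ s = 2)) : Nat.card (MulAut (PSU m K s)) ≤ s ^ (m ^ 2) := by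
  rw [S0815.result p f hf hs hK m hm h32]
  have hle := H223.Bnd.H454.FinePsu.card_le hK (show 2 ≤ m by omega)
  have h2 : 2 * f ≤ s := by rw [hs]; exact H223.Bnd.H454.FineAux.two_f_le hp.out.two_le hf
  calc Nat.gcd m (s + 1) * (2 * f) * Nat.card (PSU m K s)
      = 2 * f * (Nat.gcd m (s + 1) * Nat.card (PSU m K s)) := by ring
    _ ≤ s * s ^ (m ^ 2 - 1) := Nat.mul_le_mul h2 hle
    _ = s ^ (m ^ 2) := by
      rw [← pow_succ']
      congr 1
      have : 0 < m ^ 2 := by positivity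
      omega

/-- the general case -/
theorem dead_big {p f m s : ℕ} [hp : Fact p.Prime] [CharP K p] (hf : 1 ≤ f) (hs : s = p ^ f) (hK : Fintype.card K = s ^ 2)
    (hm : 3 ≤ m) (h : 3 ≤ m ∧ 5 ≤ s ∨ 4 ≤ m ∧ s = 4 ∨ 5 ≤ m ∧ s = 3 ∨ 8 ≤ m ∧ s = 2)
    (hn : (s - 1) * s ^ (m - 2) ≤ n) (hn2 : 2 ≤ n) : Dead n (PSU m K s) := by
  have h32 : ¬ (m = 3 ∧ s = 2) := by omega
  refine dead_of_pow (b := 5) hn2 ?_ ?_
  · intro q hq hc
    have h2 : 2 ∣ Nat.card (PSU m K s) := H546.FaPSU.dvd_card hK p hm Nat.prime_two (Or.inl rfl)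
    have h3 : 3 ∣ Nat.card (PSU m K s) := H546.FaPSU.dvd_card hK p hm Nat.prime_three (Or.inr (Or.inr hm))
    have hq2 : ¬ 2 ∣ q := fun hd => by
      have := Nat.dvd_gcd hd h2
      rw [hc] at this
      omega
    have hq3 : ¬ 3 ∣ q := fun hd => by
      have := Nat.dvd_gcd hd h3
      rw [hc] at this
      omega
    omega
  · calc Nat.card (MulAut (PSU m K s)) ^ 2 ≤ (s ^ (m ^ 2)) ^ 2 := Nat.pow_le_pow_left (card_aut_le hf hs hK hm h32) 2
      _ = s ^ (2 * m ^ 2) := by rw [← pow_mul, mul_comm]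
      _ ≤ 2 * 5 ^ ((s - 1) * s ^ (m - 2) - 2) := num_all h
      _ ≤ 2 * 5 ^ (n - 2) := Nat.mul_le_mul_left _ (Nat.pow_le_pow_right (by norm_num) (by omega))

end cards

/-! ### The row -/

/-- **task B2** -/
theorem dead_psu {F : Type u} [Field F] [Finite F] {n p : ℕ} [hp' : Fact p.Prime] [CharP F p]
    {P : Subgroup (Matrix.GeneralLinearGroup (Fin n) F)} (hC : Core P) (hn : 13 ≤ n) (hp : ¬ p ∣ Nat.card (Soc P))
    (hT : Cfsg.IsPSU (Soc P)) : Dead n (Soc P) := by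
  obtain ⟨K, iK, iKf, m, s, hK, hm, h32, ⟨e⟩⟩ := hT
  obtain ⟨r, hr⟩ := CharP.exists K
  have hrp : r.Prime := CharP.char_is_prime K r
  have hrf : Fact r.Prime := ⟨hrp⟩
  have hd : r ∣ s := by
    have h1 : r ∣ Fintype.card K := char_dvd_card K
    rw [hK] at h1
    exact hrp.dvd_of_dvd_pow h1
  have hf : ∃ f, 1 ≤ f ∧ s = r ^ f := by
    obtain ⟨k, -, hk⟩ := FiniteField.card K r
    have h1 : s ∣ r ^ (k : ℕ) := by rw [← hk, hK]; exact dvd_pow_self s two_ne_zero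
    obtain ⟨f, -, hf⟩ := (Nat.dvd_prime_pow hrp).1 h1
    refine ⟨f, ?_, hf⟩
    rcases Nat.eq_zero_or_pos f with h0 | h0
    · rw [h0, pow_zero] at hf
      rw [hf] at hd
      exact absurd (Nat.dvd_one.1 hd) hrp.one_lt.ne'
    · exact h0
  obtain ⟨f, hf1, hf⟩ := hf
  have hs2 : 2 ≤ s := by
    rw [hf]
    calc 2 ≤ r := hrp.two_le
      _ = r ^ 1 := (pow_one r).symm
      _ ≤ r ^ f := Nat.pow_le_pow_right hrp.pos hf1
  have hrd : r ∣ Nat.card (Soc P) := by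
    rw [Nat.card_congr e.toEquiv]
    exact H223.Bnd.H454.FinePsu.dvd_card hK (by omega) hrp hd
  have hrF : (r : F) ≠ 0 := cast_ne (p := p) hrp (fun h => hp (by rw [← h]; exact hrd))
  refine Dead.congr e.symm ?_
  have hbd : (m, s) ∉ ({(4, 2), (4, 3), (6, 2)} : Set (ℕ × ℕ)) → (s - 1) * s ^ (m - 2) ≤ n := by
    intro hexc
    have hN : NoR.{u} r (PSU m K s) := NoR.of_cyclic (S2089.result (F := K) m s hK hm h32 hexc) (coprime_gcd_add hrp hd)
    exact le_of_bd hC (H175.BdSU.bd_psu (F := F) hrp hK hm hrF (MulEquiv.refl _)) hN ⟨e⟩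
  have hbig : (m, s) ∉ ({(4, 2), (4, 3), (6, 2)} : Set (ℕ × ℕ)) →
      (3 ≤ m ∧ 5 ≤ s ∨ 4 ≤ m ∧ s = 4 ∨ 5 ≤ m ∧ s = 3 ∨ 8 ≤ m ∧ s = 2) → Dead n (PSU m K s) :=
    fun hexc h => dead_big (p := r) hf1 hf hK hm h (hbd hexc) (by omega)
  rcases (show 5 ≤ s ∨ s = 4 ∨ s = 3 ∨ s = 2 by omega) with h5 | rfl | rfl | rfl
  · refine hbig ?_ (Or.inl ⟨hm, h5⟩)
    simp only [Set.mem_insert_iff, Set.mem_singleton_iff, Prod.mk.injEq]
    omega
  · rcases (show m = 3 ∨ 4 ≤ m by omega) with rfl | h4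
    · exact dead_u34 hK hn
    · refine hbig ?_ (Or.inr (Or.inl ⟨h4, rfl⟩))
      simp
  · rcases (show m = 3 ∨ m = 4 ∨ 5 ≤ m by omega) with rfl | rfl | h4
    · exact dead_u33 hK hn
    · exact dead_u43 hK hn
    · refine hbig ?_ (Or.inr (Or.inr (Or.inl ⟨h4, rfl⟩)))
      simp only [Set.mem_insert_iff, Set.mem_singleton_iff, Prod.mk.injEq]
      omega
  · rcases (show m = 4 ∨ m = 5 ∨ m = 6 ∨ m = 7 ∨ 8 ≤ m by omega) with rfl | rfl | rfl | rfl | h4
    · exact dead_u42 hK hn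
    · exact dead_u52 hK hn
    · have h2 : r = 2 := (Nat.prime_dvd_prime_iff_eq hrp Nat.prime_two).1 hd
      subst h2
      have h16 : 16 ≤ n := le_of_ls' hC hrF (H95.LSx.Uni.ls_u62 (K := K) (by rw [hK]; norm_num)) ⟨e⟩
      exact dead_u62 hK h16
    · have h32' := hbd (by simp)
      exact dead_u72 hK (by simpa using h32')
    · refine hbig ?_ (Or.inr (Or.inr (Or.inr ⟨h4, rfl⟩)))
      simp only [Set.mem_insert_iff, Set.mem_singleton_iff, Prod.mk.injEq]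
      omega

end Cfsg.Agent.H930.HT
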