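import Cfsg.Agent.H337.HT.NumP
import Cfsg.Agent.H337.HT.TabP
import Cfsg.Agent.H930.HT.DeadPsu

/-!
# S3512, quasisimple rows with `p ∣ |L|`, task PB2: unitary groups, `n ≥ 13` (helper930)
-/

set_option autoImplicit false

namespace Cfsg.Agent.H930.HT

open Cfsg Cfsg.Agent.H915.LD Cfsg.Agent.H337.HT Cfsg.Agent.H912.Bd Cfsg.Agent.H936.List12

universe u v

/-! ### The numerical inequality -/

theorem le_bpow {b s : ℕ} (hb : 2 ≤ b) (hs : 1 ≤ s) : s ≤ b ^ (s - 1) := by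
  obtain ⟨t, rfl⟩ : ∃ t, s = t + 1 := ⟨s - 1, by omega⟩
  rw [Nat.add_sub_cancel]
  exact Nat.lt_pow_self (by omega)

theorem numP_step {b m s : ℕ} (hb : 2 ≤ b) (hm : 3 ≤ m) (hs : 2 ≤ s) (h1 : 4 * m + 2 ≤ (s - 1) * s ^ (m - 2))
    (h2 : 2 * s ^ (2 * m ^ 2) ≤ b ^ ((s - 1) * s ^ (m - 2) - 2)) :
    4 * (m + 1) + 2 ≤ (s - 1) * s ^ (m + 1 - 2) ∧
      2 * s ^ (2 * (m + 1) ^ 2) ≤ b ^ ((s - 1) * s ^ (m + 1 - 2) - 2) := by
  have e : (s - 1) * s ^ (m + 1 - 2) = ((s - 1) * s ^ (m - 2)) * s := by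
    rw [show m + 1 - 2 = (m - 2) + 1 by omega, pow_succ]
    ring
  rw [e]
  set N := (s - 1) * s ^ (m - 2) with hN
  have h3 : N * 2 ≤ N * s := Nat.mul_le_mul_left _ hs
  constructor
  · omega
  · have h4 : s ^ (4 * m + 2) ≤ b ^ ((s - 1) * N) := by
      calc s ^ (4 * m + 2) ≤ (b ^ (s - 1)) ^ (4 * m + 2) := Nat.pow_le_pow_left (le_bpow hb (by omega)) _
        _ = b ^ ((s - 1) * (4 * m + 2)) := (pow_mul _ _ _).symm
        _ ≤ _ := Nat.pow_le_pow_right (by omega) (Nat.mul_le_mul_left _ h1)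
    calc 2 * s ^ (2 * (m + 1) ^ 2) = (2 * s ^ (2 * m ^ 2)) * s ^ (4 * m + 2) := by
          rw [mul_assoc, ← pow_add]; congr 2; ring
      _ ≤ b ^ (N - 2) * b ^ ((s - 1) * N) := Nat.mul_le_mul h2 h4
      _ = b ^ (N * s - 2) := by
        rw [← pow_add]
        congr 1
        obtain ⟨t, rfl⟩ : ∃ t, s = t + 1 := ⟨s - 1, by omega⟩
        rw [Nat.add_sub_cancel, Nat.mul_succ, mul_comm t N]
        omega

theorem numP_three {s : ℕ} (hs : 9 ≤ s) : 2 * s ^ 18 ≤ 2 ^ ((s - 1) * s - 2) := by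
  induction s, hs using Nat.le_induction with
  | base => norm_num
  | succ s hs ih =>
    have h1 : (s + 1) ^ 18 ≤ s ^ 18 * 2 ^ (2 * s) := by
      calc (s + 1) ^ 18 ≤ (2 * s) ^ 18 := Nat.pow_le_pow_left (by omega) _
        _ = 2 ^ 18 * s ^ 18 := mul_pow _ _ _
        _ ≤ 2 ^ (2 * s) * s ^ 18 :=
          Nat.mul_le_mul_right _ (Nat.pow_le_pow_right (by norm_num) (by omega))
        _ = _ := mul_comm _ _
    calc 2 * (s + 1) ^ 18 ≤ 2 * (s ^ 18 * 2 ^ (2 * s)) := Nat.mul_le_mul_left _ h1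
      _ = (2 * s ^ 18) * 2 ^ (2 * s) := (mul_assoc _ _ _).symm
      _ ≤ 2 ^ ((s - 1) * s - 2) * 2 ^ (2 * s) := Nat.mul_le_mul_right _ ih
      _ = _ := by
        rw [← pow_add]
        congr 1
        obtain ⟨t, rfl⟩ : ∃ t, s = t + 1 := ⟨s - 1, by omega⟩
        rw [Nat.add_sub_cancel, Nat.add_sub_cancel]
        have h3 : (t + 1) * (t + 1 + 1) = t * (t + 1) + 2 * (t + 1) := by ring
        have h4 : 8 * 9 ≤ t * (t + 1) := Nat.mul_le_mul (by omega) (by omega)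
        omega

theorem numP_all {b m s : ℕ} (hb : 2 ≤ b)
    (h : 3 ≤ m ∧ 9 ≤ s ∨ 3 ≤ m ∧ s = 8 ∧ b = 3 ∨ 4 ≤ m ∧ s = 7 ∨ 4 ≤ m ∧ s = 5 ∨ 4 ≤ m ∧ s = 4 ∧ b = 3 ∨
      6 ≤ m ∧ s = 3 ∨ 9 ≤ m ∧ s = 2 ∧ b = 3) :
    2 * s ^ (2 * m ^ 2) ≤ b ^ ((s - 1) * s ^ (m - 2) - 2) := by
  have key : ∀ m₀, 3 ≤ m₀ → 2 ≤ s → 4 * m₀ + 2 ≤ (s - 1) * s ^ (m₀ - 2) →
      2 * s ^ (2 * m₀ ^ 2) ≤ b ^ ((s - 1) * s ^ (m₀ - 2) - 2) → m₀ ≤ m →
      4 * m + 2 ≤ (s - 1) * s ^ (m - 2) ∧ 2 * s ^ (2 * m ^ 2) ≤ b ^ ((s - 1) * s ^ (m - 2) - 2) := by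
    intro m₀ h3 hs h1 h2 hm
    clear h
    induction m, hm using Nat.le_induction with
    | base => exact ⟨h1, h2⟩
    | succ m hm ih => exact numP_step hb (h3.trans hm) hs ih.1 ih.2
  have up : ∀ N x : ℕ, x ≤ 2 ^ N → x ≤ b ^ N := fun N x h => h.trans (Nat.pow_le_pow_left hb N)
  rcases h with ⟨hm, hs⟩ | ⟨hm, rfl, rfl⟩ | ⟨hm, rfl⟩ | ⟨hm, rfl⟩ | ⟨hm, rfl, rfl⟩ | ⟨hm, rfl⟩ | ⟨hm, rfl, rfl⟩
  · refine (key 3 le_rfl (by omega) ?_ (up _ _ ?_) hm).2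
    · have : 8 * 9 ≤ (s - 1) * s := Nat.mul_le_mul (by omega) hs
      simpa using this.trans' (by norm_num)
    · have := numP_three hs
      simpa using this
  · exact (key 3 (by norm_num) (by norm_num) (by norm_num) (by norm_num) hm).2
  · exact (key 4 (by norm_num) (by norm_num) (by norm_num) (up _ _
      ((show 2 * 7 ^ (2 * 4 ^ 2) ≤ 2 ^ 100 by norm_num).trans
        (Nat.pow_le_pow_right (by norm_num) (by norm_num)))) hm).2
  · exact (key 4 (by norm_num) (by norm_num) (by norm_num) (up _ _ (by norm_num)) hm).2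
  · exact (key 4 (by norm_num) (by norm_num) (by norm_num) (by norm_num) hm).2
  · exact (key 6 (by norm_num) (by norm_num) (by norm_num) (up _ _ (by norm_num)) hm).2
  · exact (key 9 (by norm_num) (by norm_num) (by norm_num) (by norm_num) hm).2

/-! ### The orders -/

section cards

variable {K : Type v} [Field K] [Fintype K]

theorem card_u35 (hK : Fintype.card K = 5 ^ 2) : Nat.card (PSU 3 K 5) = 126000 := by
  have h := H277.ClsPsu.card_psu hK (n := 3) (by norm_num)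
  norm_num [Finset.prod_range_succ, Nat.even_iff] at h
  omega

theorem card_u37 (hK : Fintype.card K = 7 ^ 2) : Nat.card (PSU 3 K 7) = 5663616 := by
  have h := H277.ClsPsu.card_psu hK (n := 3) (by norm_num)
  norm_num [Finset.prod_range_succ, Nat.even_iff] at h
  omega

theorem card_u53 (hK : Fintype.card K = 3 ^ 2) : Nat.card (PSU 5 K 3) = 258190571520 := by
  have h := H277.ClsPsu.card_psu hK (n := 5) (by norm_num)
  norm_num [Finset.prod_range_succ, Nat.even_iff] at h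
  omega

theorem card_u82 (hK : Fintype.card K = 2 ^ 2) : Nat.card (PSU 8 K 2) = 7434971050829414400 := by
  have h := H277.ClsPsu.card_psu hK (n := 8) (by norm_num)
  norm_num [Finset.prod_range_succ, Nat.even_iff] at h
  omega

variable {n p : ℕ}

theorem deadP_u33 (hK : Fintype.card K = 3 ^ 2) (hp : p.Prime) (hd : p ∣ Nat.card (PSU 3 K 3)) (hr : p ≠ 3)
    (hn : 13 ≤ n) : DeadP p n (PSU 3 K 3) := by
  have h3 : Fact (Nat.Prime 3) := ⟨Nat.prime_three⟩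
  refine deadP_sieve 3 _ (card_u33 hK) ?_ (by norm_num) TabP.psu3_3 hp hd hr hn
  rw [S0815.result 3 1 le_rfl (by norm_num) hK 3 le_rfl (by norm_num), card_u33 hK]
  norm_num

theorem deadP_u34 (hK : Fintype.card K = 4 ^ 2) (hp : p.Prime) (hd : p ∣ Nat.card (PSU 3 K 4)) (hr : p ≠ 2)
    (hn : 13 ≤ n) : DeadP p n (PSU 3 K 4) := by
  have h3 : Fact (Nat.Prime 2) := ⟨Nat.prime_two⟩
  refine deadP_sieve 2 _ (card_u34 hK) ?_ (by norm_num) TabP.psu3_4 hp hd hr hn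
  rw [S0815.result 2 2 (by norm_num) (by norm_num) hK 3 le_rfl (by norm_num), card_u34 hK]
  norm_num

theorem deadP_u35 (hK : Fintype.card K = 5 ^ 2) (hp : p.Prime) (hd : p ∣ Nat.card (PSU 3 K 5)) (hr : p ≠ 5)
    (hn : 20 ≤ n) : DeadP p n (PSU 3 K 5) := by
  have h3 : Fact (Nat.Prime 5) := ⟨Nat.prime_five⟩
  refine deadP_sieve 5 _ (card_u35 hK) ?_ (by norm_num) TabP.psu3_5 hp hd hr hn
  rw [S0815.result 5 1 le_rfl (by norm_num) hK 3 le_rfl (by norm_num), card_u35 hK]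
  norm_num

theorem deadP_u37 (hK : Fintype.card K = 7 ^ 2) (hp : p.Prime) (hd : p ∣ Nat.card (PSU 3 K 7)) (hr : p ≠ 7)
    (hn : 42 ≤ n) : DeadP p n (PSU 3 K 7) := by
  have h3 : Fact (Nat.Prime 7) := ⟨by norm_num⟩
  refine deadP_sieve 7 _ (card_u37 hK) ?_ (by norm_num) TabP.psu3_7 hp hd hr hn
  rw [S0815.result 7 1 le_rfl (by norm_num) hK 3 le_rfl (by norm_num), card_u37 hK]
  norm_num

theorem deadP_u42 (hK : Fintype.card K = 2 ^ 2) (hp : p.Prime) (hd : p ∣ Nat.card (PSU 4 K 2)) (hr : p ≠ 2)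
    (hn : 13 ≤ n) : DeadP p n (PSU 4 K 2) := by
  have h3 : Fact (Nat.Prime 2) := ⟨Nat.prime_two⟩
  refine deadP_sieve 2 _ (card_u42 hK) ?_ (by norm_num) TabP.psu4_2 hp hd hr hn
  rw [S0815.result 2 1 le_rfl (by norm_num) hK 4 (by norm_num) (by norm_num), card_u42 hK]
  norm_num

theorem deadP_u43 (hK : Fintype.card K = 3 ^ 2) (hp : p.Prime) (hd : p ∣ Nat.card (PSU 4 K 3)) (hr : p ≠ 3)
    (hn : 13 ≤ n) : DeadP p n (PSU 4 K 3) := by
  have h3 : Fact (Nat.Prime 3) := ⟨Nat.prime_three⟩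
  refine deadP_sieve 3 _ (card_u43 hK) ?_ (by norm_num) TabP.psu4_3 hp hd hr hn
  rw [S0815.result 3 1 le_rfl (by norm_num) hK 4 (by norm_num) (by norm_num), card_u43 hK]
  norm_num

theorem deadP_u53 (hK : Fintype.card K = 3 ^ 2) (hp : p.Prime) (hd : p ∣ Nat.card (PSU 5 K 3)) (hr : p ≠ 3)
    (hn : 54 ≤ n) : DeadP p n (PSU 5 K 3) := by
  have h3 : Fact (Nat.Prime 3) := ⟨Nat.prime_three⟩
  refine deadP_sieve 3 _ (card_u53 hK) ?_ (by norm_num) TabP.psu5_3 hp hd hr hn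
  rw [S0815.result 3 1 le_rfl (by norm_num) hK 5 (by norm_num) (by norm_num), card_u53 hK]
  norm_num

theorem deadP_u52 (hK : Fintype.card K = 2 ^ 2) (hp : p.Prime) (hd : p ∣ Nat.card (PSU 5 K 2)) (hr : p ≠ 2)
    (hn : 13 ≤ n) : DeadP p n (PSU 5 K 2) := by
  have h3 : Fact (Nat.Prime 2) := ⟨Nat.prime_two⟩
  refine deadP_sieve 2 _ (card_u52 hK) ?_ (by norm_num) TabP.psu5_2 hp hd hr hn
  rw [S0815.result 2 1 le_rfl (by norm_num) hK 5 (by norm_num) (by norm_num), card_u52 hK]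
  norm_num

theorem deadP_u62 (hK : Fintype.card K = 2 ^ 2) (hp : p.Prime) (hd : p ∣ Nat.card (PSU 6 K 2)) (hr : p ≠ 2)
    (hn : 16 ≤ n) : DeadP p n (PSU 6 K 2) := by
  have h3 : Fact (Nat.Prime 2) := ⟨Nat.prime_two⟩
  refine deadP_sieve 2 _ (card_u62 hK) ?_ (by norm_num) TabP.psu6_2 hp hd hr hn
  rw [S0815.result 2 1 le_rfl (by norm_num) hK 6 (by norm_num) (by norm_num), card_u62 hK]
  norm_num

theorem deadP_u72 (hK : Fintype.card K = 2 ^ 2) (hp : p.Prime) (hd : p ∣ Nat.card (PSU 7 K 2)) (hr : p ≠ 2)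
    (hn : 32 ≤ n) : DeadP p n (PSU 7 K 2) := by
  have h3 : Fact (Nat.Prime 2) := ⟨Nat.prime_two⟩
  refine deadP_sieve 2 _ (card_u72 hK) ?_ (by norm_num) TabP.psu7_2 hp hd hr hn
  rw [S0815.result 2 1 le_rfl (by norm_num) hK 7 (by norm_num) (by norm_num), card_u72 hK]
  norm_num

theorem deadP_u82 (hK : Fintype.card K = 2 ^ 2) (hp : p.Prime) (hd : p ∣ Nat.card (PSU 8 K 2)) (hr : p ≠ 2)
    (hn : 64 ≤ n) : DeadP p n (PSU 8 K 2) := by
  have h3 : Fact (Nat.Prime 2) := ⟨Nat.prime_two⟩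
  refine deadP_sieve 2 _ (card_u82 hK) ?_ (by norm_num) TabP.psu8_2 hp hd hr hn
  rw [S0815.result 2 1 le_rfl (by norm_num) hK 8 (by norm_num) (by norm_num), card_u82 hK]
  norm_num

/-- the general case -/
theorem deadP_big {b r f m s : ℕ} [hrf : Fact r.Prime] [CharP K r] (hf : 1 ≤ f) (hs : s = r ^ f)
    (hK : Fintype.card K = s ^ 2) (hp : p.Prime) (hb : 2 ≤ b) (hbp : b ≤ p)
    (hm : 3 ≤ m) (h : 3 ≤ m ∧ 9 ≤ s ∨ 3 ≤ m ∧ s = 8 ∧ b = 3 ∨ 4 ≤ m ∧ s = 7 ∨ 4 ≤ m ∧ s = 5 ∨ 4 ≤ m ∧ s = 4 ∧ b = 3 ∨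
      6 ≤ m ∧ s = 3 ∨ 9 ≤ m ∧ s = 2 ∧ b = 3)
    (hn : (s - 1) * s ^ (m - 2) ≤ n) (hn2 : 2 ≤ n) : DeadP p n (PSU m K s) := by
  have h32 : ¬ (m = 3 ∧ s = 2) := by omega
  refine deadP_of_pow (b := b) hp hn2 hbp (card_aut_le hf hs hK hm h32) Nat.card_pos ?_
  calc 2 * (s ^ (m ^ 2)) ^ 2 = 2 * s ^ (2 * m ^ 2) := by rw [← pow_mul, mul_comm (m ^ 2)]
    _ ≤ b ^ ((s - 1) * s ^ (m - 2) - 2) := numP_all hb h
    _ ≤ b ^ (n - 2) := Nat.pow_le_pow_right (by omega) (by omega)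

end cards

/-! ### The row -/

/-- **task PB2** -/
theorem deadP_psu {F : Type u} [Field F] [Finite F] {n p : ℕ} [hp' : Fact p.Prime] [CharP F p]
    {P : Subgroup (Matrix.GeneralLinearGroup (Fin n) F)} (hC : Core P) (hn : 13 ≤ n) (hp : p ∣ Nat.card (Soc P))
    (hL : ¬ Cfsg.IsLieTypeChar p (Soc P)) (hT : Cfsg.IsPSU (Soc P)) : DeadP p n (Soc P) := by
  obtain ⟨K, iK, iKf, m, s, hK, hm, h32, ⟨e⟩⟩ := hT
  obtain ⟨r, hr⟩ := CharP.exists K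
  have hrp : r.Prime := CharP.char_is_prime K r
  have hrf : Fact r.Prime := ⟨hrp⟩
  have hpr : p ≠ r := by
    rintro rfl
    exact hL (Or.inr (Or.inr (Or.inl ⟨K, iK, iKf, hr, m, s, hK, hm, h32, ⟨e⟩⟩)))
  have hd : r ∣ s := by
    have h1 : r ∣ Fintype.card K := char_dvd_card K
    rw [hK] at h1
    exact hrp.dvd_of_dvd_pow h1
  have hf : ∃ f, 1 ≤ f ∧ s = r ^ f := by
    obtain ⟨k, -, hk⟩ := FiniteField.card K r
    have h1 : s ∣ r ^ (k : ℕ) := by rw [← hk, hK]; exact dvd_pow_self s two_ne_zero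
    obtain ⟨f, -, hf⟩ := (Nat.dvd_prime_pow hrp).1 h1
    refine ⟨f, ?_, hf⟩
    rcases Nat.eq_zero_or_pos f with h0 | h0
    · rw [h0, pow_zero] at hf
      rw [hf] at hd
      exact absurd (Nat.dvd_one.1 hd) hrp.one_lt.ne'
    · exact h0
  obtain ⟨f, hf1, hf⟩ := hf
  have hs2 : 2 ≤ s := by
    rw [hf]
    calc 2 ≤ r := hrp.two_le
      _ = r ^ 1 := (pow_one r).symm
      _ ≤ r ^ f := Nat.pow_le_pow_right hrp.pos hf1
  have hrF : (r : F) ≠ 0 := cast_ne (p := p) hrp (fun h => hpr h.symm)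
  have hpp : p.Prime := hp'.out
  refine DeadP.congr e.symm ?_
  have hpd : p ∣ Nat.card (PSU m K s) := by rwa [← Nat.card_congr e.toEquiv]
  have hbd : (m, s) ∉ ({(4, 2), (4, 3), (6, 2)} : Set (ℕ × ℕ)) → (s - 1) * s ^ (m - 2) ≤ n := by
    intro hexc
    have hN : NoR.{u} r (PSU m K s) := NoR.of_cyclic (S2089.result (F := K) m s hK hm h32 hexc) (coprime_gcd_add hrp hd)
    exact le_of_bd hC (H175.BdSU.bd_psu (F := F) hrp hK hm hrF (MulEquiv.refl _)) hN ⟨e⟩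
  -- even `s` means `r = 2`
  have h2r : 2 ∣ s → r = 2 := fun h => by
    rw [hf] at h
    exact ((Nat.prime_dvd_prime_iff_eq Nat.prime_two hrp).1 (Nat.prime_two.dvd_of_dvd_pow h)).symm
  have h3r : 3 ∣ s → r = 3 := fun h => by
    rw [hf] at h
    exact ((Nat.prime_dvd_prime_iff_eq Nat.prime_three hrp).1 (Nat.prime_three.dvd_of_dvd_pow h)).symm
  have h5r : 5 ∣ s → r = 5 := fun h => by
    rw [hf] at h
    exact ((Nat.prime_dvd_prime_iff_eq Nat.prime_five hrp).1 (Nat.prime_five.dvd_of_dvd_pow h)).symm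
  have h7r : 7 ∣ s → r = 7 := fun h => by
    rw [hf] at h
    exact ((Nat.prime_dvd_prime_iff_eq (by norm_num) hrp).1 ((show Nat.Prime 7 by norm_num).dvd_of_dvd_pow h)).symm
  have hp2 := hpp.two_le
  have hp3 : p ≠ 2 → 3 ≤ p := by omega
  have hbig2 : (m, s) ∉ ({(4, 2), (4, 3), (6, 2)} : Set (ℕ × ℕ)) →
      (3 ≤ m ∧ 9 ≤ s ∨ 3 ≤ m ∧ s = 8 ∧ 2 = 3 ∨ 4 ≤ m ∧ s = 7 ∨ 4 ≤ m ∧ s = 5 ∨ 4 ≤ m ∧ s = 4 ∧ 2 = 3 ∨
        6 ≤ m ∧ s = 3 ∨ 9 ≤ m ∧ s = 2 ∧ 2 = 3) → DeadP p n (PSU m K s) :=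
    fun hexc h => deadP_big (r := r) (b := 2) hf1 hf hK hpp le_rfl hp2 hm h (hbd hexc) (by omega)
  have hbig3 : (m, s) ∉ ({(4, 2), (4, 3), (6, 2)} : Set (ℕ × ℕ)) → p ≠ 2 →
      (3 ≤ m ∧ 9 ≤ s ∨ 3 ≤ m ∧ s = 8 ∧ 3 = 3 ∨ 4 ≤ m ∧ s = 7 ∨ 4 ≤ m ∧ s = 5 ∨ 4 ≤ m ∧ s = 4 ∧ 3 = 3 ∨
        6 ≤ m ∧ s = 3 ∨ 9 ≤ m ∧ s = 2 ∧ 3 = 3) → DeadP p n (PSU m K s) :=
    fun hexc h2 h => deadP_big (r := r) (b := 3) hf1 hf hK hpp (by norm_num) (hp3 h2) hm h (hbd hexc) (by omega)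
  rcases (show 9 ≤ s ∨ s = 8 ∨ s = 7 ∨ s = 6 ∨ s = 5 ∨ s = 4 ∨ s = 3 ∨ s = 2 by omega) with
    h9 | rfl | rfl | rfl | rfl | rfl | rfl | rfl
  · refine hbig2 ?_ (Or.inl ⟨hm, h9⟩)
    simp only [Set.mem_insert_iff, Set.mem_singleton_iff, Prod.mk.injEq]
    omega
  · have h2 : r = 2 := h2r (by norm_num)
    refine hbig3 (by simp) (by omega) (Or.inr (Or.inl ⟨hm, rfl, rfl⟩))
  · have h2 : r = 7 := h7r (by norm_num)
    rcases (show m = 3 ∨ 4 ≤ m by omega) with rfl | h4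
    · exact deadP_u37 hK hpp hpd (by omega) (by simpa using hbd (by simp))
    · exact hbig2 (by simp) (Or.inr (Or.inr (Or.inl ⟨h4, rfl⟩)))
  · have h2 : r = 2 := h2r (by norm_num)
    have h3 : r = 3 := h3r (by norm_num)
    omega
  · have h2 : r = 5 := h5r (by norm_num)
    rcases (show m = 3 ∨ 4 ≤ m by omega) with rfl | h4
    · exact deadP_u35 hK hpp hpd (by omega) (by simpa using hbd (by simp))
    · exact hbig2 (by simp) (Or.inr (Or.inr (Or.inr (Or.inl ⟨h4, rfl⟩))))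
  · have h2 : r = 2 := h2r (by norm_num)
    rcases (show m = 3 ∨ 4 ≤ m by omega) with rfl | h4
    · exact deadP_u34 hK hpp hpd (by omega) hn
    · exact hbig3 (by simp) (by omega) (Or.inr (Or.inr (Or.inr (Or.inr (Or.inl ⟨h4, rfl, rfl⟩)))))
  · have h2 : r = 3 := h3r (by norm_num)
    rcases (show m = 3 ∨ m = 4 ∨ m = 5 ∨ 6 ≤ m by omega) with rfl | rfl | rfl | h4
    · exact deadP_u33 hK hpp hpd (by omega) hn
    · exact deadP_u43 hK hpp hpd (by omega) hn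
    · exact deadP_u53 hK hpp hpd (by omega) (by simpa using hbd (by simp))
    · refine hbig2 ?_ (Or.inr (Or.inr (Or.inr (Or.inr (Or.inr (Or.inl ⟨h4, rfl⟩))))))
      simp only [Set.mem_insert_iff, Set.mem_singleton_iff, Prod.mk.injEq]
      omega
  · have h2 : r = 2 := h2r (by norm_num)
    subst h2
    rcases (show m = 4 ∨ m = 5 ∨ m = 6 ∨ m = 7 ∨ m = 8 ∨ 9 ≤ m by omega) with rfl | rfl | rfl | rfl | rfl | h4
    · exact deadP_u42 hK hpp hpd hpr hn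
    · exact deadP_u52 hK hpp hpd hpr hn
    · have h16 : 16 ≤ n := le_of_ls' hC hrF (H95.LSx.Uni.ls_u62 (K := K) (by rw [hK]; norm_num)) ⟨e⟩
      exact deadP_u62 hK hpp hpd hpr h16
    · exact deadP_u72 hK hpp hpd hpr (by simpa using hbd (by simp))
    · exact deadP_u82 hK hpp hpd hpr (by simpa using hbd (by simp))
    · refine hbig3 ?_ hpr (Or.inr (Or.inr (Or.inr (Or.inr (Or.inr (Or.inr ⟨h4, rfl, rfl⟩))))))
      simp only [Set.mem_insert_iff, Set.mem_singleton_iff, Prod.mk.injEq]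
      omega

end Cfsg.Agent.H930.HT
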