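import Cfsg.Agent.H578.HT.Cov
import Cfsg.Agent.H337.HT.Basics
import Cfsg.Agent.H918.U43.Main
import Cfsg.Agent.H930.HT.DeadPsu

/-!
# S3540, quasisimple rows, task K6c: `n = 6`, `PSU₄(3)` (helper930)
-/

set_option autoImplicit false
set_option linter.unusedSectionVars false

namespace Cfsg.Agent.H930.HT

open Cfsg Cfsg.Agent.H828.HT Cfsg.Agent.H337.HT Cfsg.Agent.H918.U43

universe u w

/-! ### The numbers -/

/-- the search over `q` -/
def lpU : ℕ → ℕ → Bool
  | 0, _ => true
  | k + 1, q =>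
    bif (Nat.beq (q % 3) 1) && (Nat.beq (Nat.gcd q 210) 1) &&
      (Nat.ble (4 * q ^ 6) (5 * (Nat.gcd ((q - 1) * 5225472) (q ^ 6 - 1)) ^ 2)) then false
    else lpU k (q + 1)

theorem lpU_spec : ∀ (k q₀ : ℕ), lpU k q₀ = true → ∀ q, q₀ ≤ q → q < q₀ + k → q % 3 = 1 → Nat.gcd q 210 = 1 →
    ¬ 4 * q ^ 6 ≤ 5 * (Nat.gcd ((q - 1) * 5225472) (q ^ 6 - 1)) ^ 2
  | 0, q₀, _, q, h1, h2, _, _ => by omega
  | k + 1, q₀, h, q, h1, h2, h3, h4 => by
    rw [lpU] at h
    cases hb : ((Nat.beq (q₀ % 3) 1) && (Nat.beq (Nat.gcd q₀ 210) 1) &&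
      (Nat.ble (4 * q₀ ^ 6) (5 * (Nat.gcd ((q₀ - 1) * 5225472) (q₀ ^ 6 - 1)) ^ 2))) with
    | true => rw [hb, cond_true] at h; exact Bool.noConfusion h
    | false =>
      rw [hb, cond_false] at h
      rcases h1.eq_or_lt with rfl | hlt
      · intro hle
        rw [Bool.and_eq_false_iff, Bool.and_eq_false_iff] at hb
        rcases hb with (hb | hb) | hb
        · rw [h3] at hb; exact Bool.noConfusion hb
        · rw [h4] at hb; exact Bool.noConfusion hb
        · rw [Nat.ble_eq_true_of_le hle] at hb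
          exact Bool.noConfusion hb
      · exact lpU_spec k (q₀ + 1) h q hlt (by omega) h3 h4

theorem lpU_run : lpU 2420 2 = true := by decide +kernel

theorem no_cand {q : ℕ} (hq : 2 ≤ q) (h3 : q % 3 = 1) (hc : q.Coprime 3265920) : ¬ Cand 5 3265920 26127360 6 q := by
  rintro ⟨m, h, hR, h2, hm, ho, hd, hle⟩
  obtain ⟨k, rfl⟩ := hR
  have hk : 0 < k := by omega
  have hm5 : m ∣ (q - 1) * 5225472 := by
    have h5 : 5 * (m * k) ∣ 5 * ((q - 1) * 5225472) := by
      have e1 : m * (5 * k) = 5 * (m * k) := by ring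
      have e2 : (q - 1) * 26127360 = 5 * ((q - 1) * 5225472) := by ring
      rwa [e1, e2] at hd
    exact (Dvd.intro k rfl).trans (Nat.dvd_of_mul_dvd_mul_left (by norm_num) h5)
  have hle' : 4 * q ^ 6 ≤ 5 * m ^ 2 := by
    have h5 : k * (4 * q ^ 6) ≤ k * (5 * m ^ 2) := by
      have h6 : 4 * k ≤ 5 * k - 1 := by omega
      calc k * (4 * q ^ 6) = (4 * k) * q ^ 6 := by ring
        _ ≤ (5 * k - 1) * q ^ 6 := Nat.mul_le_mul_right _ h6
        _ ≤ 5 * k * m ^ 2 := hle
        _ = _ := by ring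
    exact Nat.le_of_mul_le_mul_left h5 hk
  have hpos : 0 < (q - 1) * 5225472 := Nat.mul_pos (by omega) (by norm_num)
  have hmle : m ≤ (q - 1) * 5225472 := Nat.le_of_dvd hpos hm5
  have hq2 : q < 2422 := by
    by_contra hcon
    push Not at hcon
    have h1 : 4 * q ^ 6 ≤ 5 * ((q - 1) * 5225472) ^ 2 := hle'.trans (Nat.mul_le_mul_left 5 (Nat.pow_le_pow_left hmle 2))
    have h4 : ((q - 1) * 5225472) ^ 2 < q ^ 2 * 5225472 ^ 2 := by
      rw [mul_pow]
      exact Nat.mul_lt_mul_of_pos_right (Nat.pow_lt_pow_left (by omega) (by norm_num)) (by norm_num)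
    have h5 : 2422 ^ 4 ≤ q ^ 4 := Nat.pow_le_pow_left hcon 4
    have h6 : q ^ 6 = q ^ 2 * q ^ 4 := by ring
    rw [h6] at h1
    have h7 : q ^ 2 * (4 * 2422 ^ 4) ≤ q ^ 2 * (4 * q ^ 4) := Nat.mul_le_mul_left _ (Nat.mul_le_mul_left _ h5)
    have h8 : 0 < q ^ 2 := by positivity
    have h9 : q ^ 2 * (4 * 2422 ^ 4) < q ^ 2 * (5 * 5225472 ^ 2) := by nlinarith
    have h10 := Nat.lt_of_mul_lt_mul_left h9
    norm_num at h10
  have hg : Nat.gcd q 210 = 1 := by
    have h1 : (210 : ℕ) ∣ 3265920 := by norm_num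
    exact Nat.Coprime.coprime_dvd_right h1 hc
  have hpos' : 0 < Nat.gcd ((q - 1) * 5225472) (q ^ 6 - 1) := Nat.gcd_pos_of_pos_left _ hpos
  refine lpU_spec 2420 2 lpU_run q hq (by omega) h3 hg (hle'.trans ?_)
  exact Nat.mul_le_mul_left 5 (Nat.pow_le_pow_left (Nat.le_of_dvd hpos' (Nat.dvd_gcd hm5 hm)) 2)

/-! ### The structure -/

section struct

variable {p : ℕ} [hp : Fact p.Prime] {K : Type w} [Field K] {V : Type u} [AddCommGroup V] [Module (ZMod p) V] [Finite V]
    [Module K V] {G L : Subgroup (V ≃ₗ[ZMod p] V)} {h : ℕ}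

/-- `L` acts `K`-linearly -/
def repK (H : QS p K V G L h) : L →* Module.End K V where
  toFun x :=
    { toFun := fun v => (x : V ≃ₗ[ZMod p] V) v
      map_add' := map_add _
      map_smul' := fun c v => H.lin _ x.2 c v }
  map_one' := rfl
  map_mul' _ _ := rfl

theorem repK_apply (H : QS p K V G L h) (x : L) (v : V) : repK H x v = (x : V ≃ₗ[ZMod p] V) v := rfl

theorem repK_inj (H : QS p K V G L h) : Function.Injective (repK H) := by
  intro a b hab
  apply Subtype.ext
  ext v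
  exact LinearMap.congr_fun hab v

theorem repK_irr (H : QS p K V G L h) (Y : Submodule K V) (hY : ∀ l : L, ∀ y ∈ Y, repK H l y ∈ Y) :
    Y = ⊥ ∨ Y = ⊤ := by
  let W : Submodule (ZMod p) V :=
    { carrier := Y
      add_mem' := fun ha hb => Y.add_mem ha hb
      zero_mem' := Y.zero_mem
      smul_mem' := by
        intro c v hv
        have h1 : c • v = c.val • v := by
          rw [← Nat.cast_smul_eq_nsmul (ZMod p), ZMod.natCast_zmod_val]
        rw [h1]
        exact Y.smul_of_tower_mem c.val hv }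
  rcases H.irr W (fun l hl v hv => hY ⟨l, hl⟩ v hv) with h1 | h1
  · left
    rw [eq_bot_iff]
    intro y hy
    have h2 : y ∈ W := hy
    rw [h1] at h2
    exact h2
  · right
    rw [eq_top_iff]
    intro y _
    have h2 : y ∈ W := by rw [h1]; trivial
    exact h2

theorem pr_of (H : QS p K V G L h) {r n : ℕ} (hn : Module.finrank K V = n)
    (hc : (Nat.card (Subgroup.center L)).Coprime r) : H912.Bd.PR K n r (L ⧸ Subgroup.center L) := by
  have := H.finiteDim
  let b : Module.Basis (Fin n) K V := Module.finBasisOfFinrankEq K V hn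
  let f : L →* Matrix (Fin n) (Fin n) K :=
    ((LinearMap.toMatrixAlgEquiv b : Module.End K V ≃ₐ[K] Matrix (Fin n) (Fin n) K) : Module.End K V →* _).comp (repK H)
  let ρ : L →* Matrix.GeneralLinearGroup (Fin n) K := MonoidHom.toHomUnits f
  have hρ : Function.Injective ρ := by
    intro x y hxy
    apply repK_inj H
    have h1 : ((ρ x : Matrix.GeneralLinearGroup (Fin n) K) : Matrix (Fin n) (Fin n) K) = ρ y := by rw [hxy]
    rw [MonoidHom.coe_toHomUnits, MonoidHom.coe_toHomUnits] at h1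
    exact (LinearMap.toMatrixAlgEquiv b).injective h1
  let E := MonoidHom.ofInjective hρ
  refine ⟨ρ.range, inferInstance, (QuotientGroup.mk' (Subgroup.center L)).comp E.symm.toMonoidHom, ρ.range.subtype,
    (QuotientGroup.mk'_surjective _).comp E.symm.surjective, ?_, ?_, ?_⟩
  · intro x hx y
    have h1 : E.symm x ∈ Subgroup.center L := by
      rw [← QuotientGroup.eq_one_iff]
      exact hx
    apply E.symm.injective
    rw [map_mul, map_mul]
    exact (Subgroup.mem_center_iff.1 h1 _).symm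
  · have h1 : Nat.card ((QuotientGroup.mk' (Subgroup.center L)).comp E.symm.toMonoidHom).ker =
        Nat.card (Subgroup.center L) := by
      apply Nat.card_congr
      refine E.symm.toEquiv.subtypeEquiv fun x => ?_
      rw [MonoidHom.mem_ker]
      exact QuotientGroup.eq_one_iff _
    rw [h1]
    exact hc
  · rw [(MonoidHom.ker_eq_bot_iff _).2 ρ.range.subtype_injective]
    exact bot_le

theorem det_one (H : QS p K V G L h) {z : L} {a : K} (hz : repK H z = a • 1) : a ^ Module.finrank K V = 1 := by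
  have := H.finiteDim
  let f : L →* Kˣ := MonoidHom.toHomUnits ((LinearMap.det : Module.End K V →* K).comp (repK H))
  have h1 : f z = 1 := by
    have h2 : commutator L ≤ f.ker := Abelianization.commutator_subset_ker f
    rw [H.perf] at h2
    exact h2 (Subgroup.mem_top z)
  have h2 : ((f z : Kˣ) : K) = 1 := by rw [h1, Units.val_one]
  rw [MonoidHom.coe_toHomUnits] at h2
  change LinearMap.det (repK H z) = 1 at h2
  rw [hz, LinearMap.det_smul, map_one, mul_one] at h2
  exact h2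

/-- a 5-cycle on six letters -/
theorem exists_five {Ω : Type*} [Fintype Ω] [DecidableEq Ω] (h : Fintype.card Ω = 6) :
    ∃ (σ : Equiv.Perm Ω) (w : Ω), Equiv.Perm.sign σ = 1 ∧ σ ^ 5 = 1 ∧ σ ≠ 1 ∧ σ w = w := by
  let e : Fin 6 ≃ Ω := (Fintype.equivFinOfCardEq h).symm
  let σ₀ : Equiv.Perm (Fin 6) := ⟨![1, 2, 3, 4, 0, 5], ![4, 0, 1, 2, 3, 5], by decide, by decide⟩
  have h1 : Equiv.Perm.sign σ₀ = 1 := by decide +kernel
  have h2 : σ₀ ^ 5 = 1 := by decide +kernel
  have h3 : σ₀ ≠ 1 := by decide +kernel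
  have h4 : σ₀ 5 = 5 := by decide +kernel
  refine ⟨e.permCongrHom σ₀, e 5, ?_, ?_, ?_, ?_⟩
  · exact (Equiv.Perm.sign_permCongr e σ₀).trans h1
  · rw [← map_pow, h2, map_one]
  · intro h
    exact h3 (e.permCongrHom.injective (by rw [h, map_one]))
  · change e (σ₀ (e.symm (e 5))) = e 5
    rw [Equiv.symm_apply_apply, h4]

/-- **task K6c, `PSU₄(3)`** -/
theorem kill_six_U43 (H : QS p K V G L h) (hn : Module.finrank K V = 6)
    (hS : H912.Bd.IsU 4 3 (L ⧸ Subgroup.center L)) : False := by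
  classical
  obtain ⟨K', iK, iKf, hK', ⟨e⟩⟩ := hS
  have hT : Nat.card (L ⧸ Subgroup.center L) = 3265920 := by rw [Nat.card_congr e.toEquiv, card_u43 hK']
  have hA : Nat.card (MulAut (L ⧸ Subgroup.center L)) = 26127360 := by
    rw [Nat.card_congr (MulAut.congr e).toEquiv]
    have h3 : Fact (Nat.Prime 3) := ⟨Nat.prime_three⟩
    rw [S0815.result 3 1 le_rfl (by norm_num) hK' 4 (by norm_num) (by norm_num), card_u43 hK']
    norm_num
  have hcop := H.coprime
  rw [hT] at hcop
  have hfinK := H.finiteK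
  have hfd := H.finiteDim
  have hch := H.charP
  obtain ⟨v0, hv0⟩ := H.exists_ne
  have hnt : Nontrivial V := ⟨⟨v0, 0, hv0⟩⟩
  have h3K : (3 : K) ≠ 0 := by
    intro h0
    have h1 : ((3 : ℕ) : K) = 0 := by exact_mod_cast h0
    rw [CharP.cast_eq_zero_iff K p] at h1
    have hp3 : p = 3 := (Nat.prime_dvd_prime_iff_eq hp.out Nat.prime_three).1 h1
    obtain ⟨k, hk, hk0⟩ := H.exists_card
    rw [hk, hp3] at hcop
    have h2 : 3 ∣ Nat.gcd (3 ^ k) 3265920 := Nat.dvd_gcd (dvd_pow_self 3 hk0.ne') (by norm_num)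
    rw [hcop] at h2
    exact absurd h2 (by norm_num)
  -- three divides the order of the centre
  have h3Z : 3 ∣ Nat.card (Subgroup.center L) := by
    by_contra hnd
    have hpr := pr_of H hn (r := 3) ((Nat.Prime.coprime_iff_not_dvd Nat.prime_three).2 hnd).symm
    have hchar : CharP K' 3 := by
      have : Fact (Nat.Prime 3) := ⟨Nat.prime_three⟩
      exact charP_of_card_eq_prime_pow (f := 2) hK'
    have h2 := H175.BdSU.bd_psu (F := K) (K := K') (q := 3) (n := 4) Nat.prime_three hK' (by norm_num)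
      (by exact_mod_cast h3K) e _ hpr
    norm_num at h2
  have hf3 : Fact (Nat.Prime 3) := ⟨Nat.prime_three⟩
  obtain ⟨z, hz⟩ := exists_prime_orderOf_dvd_card' (G := Subgroup.center L) 3 h3Z
  obtain ⟨c, hc⟩ := H578.HT.scal_of_mem_center H z.2
  have hz3 : ((z : L)) ^ 3 = 1 := by
    have h1 : z ^ 3 = 1 := by rw [← hz, pow_orderOf_eq_one]
    exact congrArg Subtype.val h1
  have hc3 : c ^ 3 = 1 := by
    have h1 : (((z : L) : V ≃ₗ[ZMod p] V) ^ 3) v0 = v0 := by
      rw [← Subgroup.coe_pow, hz3]; rfl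
    have h2 : (((z : L) : V ≃ₗ[ZMod p] V) ^ 3) v0 = c ^ 3 • v0 := by
      change ((z : L) : V ≃ₗ[ZMod p] V) (((z : L) : V ≃ₗ[ZMod p] V) (((z : L) : V ≃ₗ[ZMod p] V) v0)) = _
      rw [hc, hc, hc, smul_smul, smul_smul]
      congr 1
      ring
    rw [h2] at h1
    have h4 : (c ^ 3 - 1) • v0 = 0 := by rw [sub_smul, one_smul, h1, sub_self]
    exact sub_eq_zero.1 ((smul_eq_zero.1 h4).resolve_right hv0)
  have hc1 : c ≠ 1 := by
    rintro rfl
    have h1 : z = 1 := by
      apply Subtype.ext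
      apply Subtype.ext
      ext v
      rw [hc, one_smul]; rfl
    rw [h1, orderOf_one] at hz
    omega
  have hom : c ^ 2 + c + 1 = 0 := by
    have h6 : (c - 1) * (c ^ 2 + c + 1) = 0 := by linear_combination hc3
    exact (mul_eq_zero.1 h6).resolve_left (sub_ne_zero.2 hc1)
  have hmod : Nat.card K % 3 = 1 := by
    have hc0 : c ≠ 0 := by rintro rfl; norm_num at hc3
    have h1 : orderOf (Units.mk0 c hc0) = 3 := by
      apply orderOf_eq_prime
      · apply Units.ext
        rw [Units.val_pow_eq_pow_val, Units.val_mk0, hc3, Units.val_one]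
      · intro h2
        apply hc1
        have := congrArg Units.val h2
        simpa using this
    have h2 : 3 ∣ Nat.card K - 1 := by
      rw [← Nat.card_units, ← h1]
      exact orderOf_dvd_natCard _
    have h4 := H.two_le_card
    omega
  -- the weights
  obtain ⟨D⟩ := exists_TD (T := L ⧸ Subgroup.center L) (K := K') (by rw [hK']; norm_num) e
  obtain ⟨X, hX1, hX2⟩ := exists_lift (π := QuotientGroup.mk' (Subgroup.center L)) D (QuotientGroup.mk'_surjective _)
    (by rw [QuotientGroup.ker_mk'])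
  let S : Sit D K V L :=
    ⟨repK H, repK_inj H, QuotientGroup.mk' (Subgroup.center L), QuotientGroup.mk'_surjective _, fun x => by
      constructor
      · intro h1
        obtain ⟨a, ha⟩ := H578.HT.scal_of_mem_center H ((QuotientGroup.eq_one_iff x).1 h1)
        exact ⟨a, LinearMap.ext ha⟩
      · rintro ⟨a, ha⟩
        exact (QuotientGroup.eq_one_iff x).2 (H578.HT.mem_center_of_scal H (c := a) fun v => LinearMap.congr_fun ha v),
      c, hom, h3K, X, hX1, hX2⟩
  have hsimp : IsSimpleGroup (L ⧸ Subgroup.center L) := H.simple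
  obtain ⟨-, d, Hx, -, hSc⟩ := S.degree (by rw [hn]; norm_num) (fun Y hY => repK_irr H Y hY)
  obtain ⟨y, hy, hy0, hact⟩ := S.exists_basis Hx hSc (fun x a hx => by
    have h1 := det_one H (z := x) (a := a) hx
    rwa [hn] at h1)
  have hli := S.linInd hy hy0
  have hne : Nonempty {w // w ∈ S.Om} := Fintype.card_pos_iff.1 (by rw [Hx.fcard]; norm_num)
  let b := basisOfLinearIndependentOfCardEqFinrank hli (by rw [Hx.fcard, hn])
  have hb : ∀ w, b w = y w := fun w => by
    rw [coe_basisOfLinearIndependentOfCardEqFinrank]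
  have hpow : ∀ (x : L) (v : V) (a : K), repK H x v = a • v → ∀ k : ℕ, repK H (x ^ k) v = a ^ k • v := by
    intro x v a hx k
    induction k with
    | zero => rw [pow_zero, pow_zero, one_smul, map_one]; rfl
    | succ k ih =>
      rw [pow_succ, map_mul, Module.End.mul_apply, hx, map_smul, ih, smul_smul, pow_succ, mul_comm]
  have hsix : ∀ m : S.Mh, S.act m = 1 → ((m : L)) ^ 6 = 1 := by
    intro m hm
    apply repK_inj H
    rw [map_one]
    refine b.ext fun w => ?_
    obtain ⟨a, ha6, ha⟩ := hact m w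
    rw [hm, Equiv.Perm.one_apply] at ha
    rw [hb, hpow _ _ a ha 6, ha6, one_smul]
    rfl
  obtain ⟨σ, w0, hs1, hs5, hs0, hsw⟩ := exists_five Hx.fcard
  obtain ⟨m, hm⟩ := S.exists_act_eq Hx hs1
  have hm30 : ((m : L) ^ 6) ^ 5 = 1 := by
    have h1 := hsix (m ^ 5) (by rw [map_pow, hm, hs5])
    rw [Subgroup.coe_pow] at h1
    rw [← pow_mul] at h1 ⊢
    exact h1
  have hm6 : (m : L) ^ 6 ≠ 1 := by
    intro h1
    have h2 : m ^ 6 = 1 := Subtype.ext (by rw [Subgroup.coe_pow, h1]; rfl)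
    have h4 : σ ^ 6 = 1 := by rw [← hm, ← map_pow, h2, map_one]
    rw [pow_succ, hs5, one_mul] at h4
    exact hs0 h4
  have hf5 : Fact (Nat.Prime 5) := ⟨by norm_num⟩
  have hord : orderOf ((m : L) ^ 6) = 5 := orderOf_eq_prime hm30 hm6
  have hfix : repK H ((m : L) ^ 6) (y w0) = y w0 := by
    obtain ⟨a, ha6, ha⟩ := hact m w0
    rw [hm, hsw] at ha
    rw [hpow _ _ a ha 6, ha6, one_smul]
  have h5 : 5 ∣ h := by
    refine dvd_h H.half (g := ⟨((m : L) ^ 6 : L), H.le ((m : L) ^ 6).2⟩) ?_ (hy0 w0) hfix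
    rw [← hord, ← Subgroup.orderOf_coe, ← Subgroup.orderOf_coe ((m : L) ^ 6)]
  have hcand := H.cand h5
  rw [hT, hA, hn] at hcand
  exact no_cand H.two_le_card hmod hcop hcand

end struct

end Cfsg.Agent.H930.HT
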